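import Groth.Agent.AntiAffLib.OpenSub
import Groth.Agent.GrpFieldLib.Identity
import Groth.Agent.FinHomLib.Affine

/-!
Connectedness of subgroups generated by commutators with a connected group.
-/

set_option autoImplicit false
set_option linter.style.haveILetI false
set_option backward.isDefEq.respectTransparency false
set_option maxHeartbeats 1000000

noncomputable section

universe u

open CategoryTheory CategoryTheory.Limits MonoidalCategory CartesianMonoidalCategory AlgebraicGeometry
open scoped MonObj
open Groth.Agent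

attribute [-instance] CategoryTheory.Hom.commGroup

namespace CommSubLib

variable {k : Type u} [Field k] {A B Γ : Over (Spec (CommRingCat.of k))}

/-- A connected group is geometrically irreducible. -/
theorem geometricallyIrreducible_of_connected (A : Over (Spec (CommRingCat.of k))) [GrpObj A]
    [LocallyOfFiniteType A.hom] [ConnectedSpace A.left] : GeometricallyIrreducible A.hom := by
  have h := Groth.Agent.GrpField.geometricallyIrreducible_of_range (G := A) (𝟙 A.left) (by
    rw [← Groth.Agent.GrpField.connectedComponent_unit, PreconnectedSpace.connectedComponent_eq_univ]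
    exact Set.range_eq_univ.2 fun x => ⟨x, rfl⟩)
  rwa [Category.id_comp] at h

/-- A map from a product with a connected group that is constant one on the unit section lands in the component
of the unit. -/
theorem range_subset_component [GrpObj A] [GrpObj Γ] [LocallyOfFiniteType A.hom] [LocallyOfFiniteType Γ.hom]
    [ConnectedSpace A.left] (f : A ⊗ B ⟶ Γ) (hf : lift (1 : B ⟶ A) (𝟙 B) ≫ f = 1) :
    Set.range f.left ⊆ GrpField.Z0 Γ := by
  haveI := geometricallyIrreducible_of_connected A
  rintro _ ⟨z, rfl⟩
  let b := (snd A B).left z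
  let T : Over (Spec (CommRingCat.of k)) := Over.mk (B.left.fromSpecResidueField b ≫ B.hom)
  let t : T ⟶ B := Over.homMk (B.left.fromSpecResidueField b) rfl
  haveI : IrreducibleSpace ↥(A ⊗ T).left :=
    GeometricallyIrreducible.geometrically_irreducibleSpace (f := A.hom) T.hom _ _
      (IsPullback.of_hasPullback A.hom T.hom)
  let m : A ⊗ T ⟶ Γ := (A ◁ t) ≫ f
  have hz : f.left z ∈ Set.range m.left := by
    obtain ⟨w, hw, -⟩ := Scheme.exists_preimage_of_isPullback
      (Groth.Agent.FinHom.isPullback_whiskerLeft A t) z (IsLocalRing.closedPoint _)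
      (Scheme.fromSpecResidueField_apply b _).symm
    exact ⟨w, by rw [Over.comp_left, Scheme.Hom.comp_apply, hw]⟩
  have he : GrpField.unitPt Γ ∈ Set.range m.left := by
    let s : T ⟶ A ⊗ T := lift 1 (𝟙 T)
    have hs : s ≫ m = toUnit T ≫ η[Γ] := by
      have h1 : s ≫ (A ◁ t) = t ≫ lift (1 : B ⟶ A) (𝟙 B) := by
        rw [comp_lift, MonObj.comp_one, Category.comp_id, lift_whiskerLeft, Category.id_comp]
      rw [← Category.assoc, h1, Category.assoc, hf, MonObj.comp_one, Hom.one_def]
    let q : T.left := IsLocalRing.closedPoint _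
    refine ⟨s.left q, (congr($(hs).left q)).trans ?_⟩
    show (η[Γ]).left ((toUnit T).left q) = _
    rw [show (toUnit T).left q = (IsLocalRing.closedPoint k : Spec (CommRingCat.of k)) from
      @Subsingleton.elim (PrimeSpectrum k) _ _ _]
    rfl
  rw [← GrpField.connectedComponent_unit]
  exact (isPreconnected_range m.left.continuous).subset_connectedComponent he hz

/-- A group generated as a closed subgroup by such a map is connected and quasi-compact. -/
theorem connected_and_qc [GrpObj A] [GrpObj Γ] [LocallyOfFiniteType A.hom] [LocallyOfFiniteType Γ.hom]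
    [ConnectedSpace A.left] (f : A ⊗ B ⟶ Γ) (hf : lift (1 : B ⟶ A) (𝟙 B) ≫ f = 1)
    (hmin : ∀ (Γ' : Over (Spec (CommRingCat.of k))) (_ : GrpObj Γ') (i' : Γ' ⟶ Γ), IsMonHom i' →
      IsClosedImmersion i'.left → (∃ f'' : A ⊗ B ⟶ Γ', f'' ≫ i' = f) → ∃ j : Γ ⟶ Γ', j ≫ i' = 𝟙 Γ) :
    QuasiCompact Γ.hom ∧ ConnectedSpace Γ.left := by
  obtain ⟨Γ₀, _, i₀, hm, hci, hfl, hr, hgi, hcpt⟩ := GrpField.exists_identity_component (G := Γ)
  haveI := hm; haveI := hci; haveI := hfl; haveI := hcpt
  haveI : IsLocallyNoetherian Γ.left := LocallyOfFiniteType.isLocallyNoetherian Γ.hom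
  haveI : LocallyOfFinitePresentation i₀.left :=
    LocallyOfFinitePresentation.iff_locallyOfFiniteType.2 inferInstance
  haveI : IsOpenImmersion i₀.left := IsOpenImmersion.of_flat_of_mono i₀.left
  have hsub : Set.range f.left ⊆ Set.range i₀.left := by rw [hr]; exact range_subset_component f hf
  let f₀ : A ⊗ B ⟶ Γ₀ := Over.homMk (IsOpenImmersion.lift i₀.left f.left hsub) (by
    rw [← Over.w i₀, ← Category.assoc, IsOpenImmersion.lift_fac, Over.w f])
  obtain ⟨j, hj⟩ := hmin Γ₀ inferInstance i₀ hm hci ⟨f₀, Over.OverMorphism.ext (IsOpenImmersion.lift_fac _ _ _)⟩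
  have hsurj : Function.Surjective i₀.left := fun y =>
    ⟨j.left y, by rw [← Scheme.Hom.comp_apply, ← Over.comp_left, hj]; rfl⟩
  haveI : CompactSpace Γ.left := ⟨by rw [← hsurj.range_eq]; exact isCompact_range i₀.left.continuous⟩
  have hZ : _root_.IsConnected (GrpField.Z0 Γ) := (GrpField.isIrreducible_Z0 Γ).isConnected
  rw [← hr, hsurj.range_eq] at hZ
  exact ⟨quasiCompact_of_compactSpace _, connectedSpace_iff_univ.2 hZ⟩

end CommSubLib

end
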